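import Groth.Agent.Lib.EtRamProper29.GaloisTame
import Groth.Agent.Lib.EtaleFibre12.Basic
import Groth.Prelude.Def_PiSp
import Mathlib.FieldTheory.IsAlgClosed.AlgebraicClosure
import Mathlib.RingTheory.Unramified.Field
import Mathlib.GroupTheory.GroupAction.Quotient

/-!
# Galois covers of order prime to the characteristic are tame
-/

set_option maxHeartbeats 400000
set_option autoImplicit false
set_option backward.isDefEq.respectTransparency false

universe u

open CategoryTheory AlgebraicGeometry Limits

namespace Groth.Agent.EtRamProper29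

theorem exists_factor {Z : Scheme.{u}} (F : Type u) [Field F] (s : Spec (CommRingCat.of F) ⟶ Z) (z : Z)
    (hz : s.base (IsLocalRing.closedPoint F) = z) :
    ∃ h : Z.residueField z ⟶ CommRingCat.of F, Spec.map h ≫ Z.fromSpecResidueField z = s := by
  obtain ⟨⟨x, h⟩, rfl⟩ := (Scheme.SpecToEquivOfField F Z).symm.surjective s
  obtain rfl : x = z := (Scheme.fromSpecResidueField_apply x _).symm.trans hz
  exact ⟨h, rfl⟩

theorem fromSpec_apply {Z : Scheme.{u}} (F : Type u) [Field F] (z : Z)
    (h : Z.residueField z ⟶ CommRingCat.of F) :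
    (Spec.map h ≫ Z.fromSpecResidueField z).base (IsLocalRing.closedPoint F) = z := by
  rw [Scheme.Hom.comp_apply]
  exact Scheme.fromSpecResidueField_apply z _

variable {X : Scheme.{u}} (Z : FEt.Cat X) (z : Z.left)

/-- The residue field extension at a point of a cover. -/
@[reducible] noncomputable def resAlg :
    Algebra (X.residueField (Z.hom.base z)) (Z.left.residueField z) :=
  (Z.hom.residueFieldMap z).hom.toAlgebra

attribute [local instance] resAlg

theorem isSeparable_residue :
    Algebra.IsSeparable (X.residueField (Z.hom.base z)) (Z.left.residueField z) := by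
  haveI : Etale Z.hom := Z.prop.2
  have h := EtaleFibre12.etale_SpecMap_residueFieldMap Z.hom z
  rw [HasRingHomProperty.Spec_iff (P := @Etale)] at h
  haveI : Algebra.Etale (X.residueField (Z.hom.base z)) (Z.left.residueField z) := h
  exact Algebra.FormallyUnramified.isSeparable _ _

theorem galois_residue_aux (Ω : Type u) [Field Ω] [IsAlgClosed Ω] [Algebra (Z.left.residueField z) Ω]
    (hZ : PiSp.IsGaloisCover Z) [Finite (Aut Z)] :
    IsGalois (X.residueField (Z.hom.base z)) (Z.left.residueField z) ∧
      FiniteDimensional (X.residueField (Z.hom.base z)) (Z.left.residueField z) ∧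
      Module.finrank (X.residueField (Z.hom.base z)) (Z.left.residueField z) ∣ Nat.card (Aut Z) := by
  classical
  haveI : IsFinite Z.hom := Z.prop.1
  haveI : Etale Z.hom := Z.prop.2
  haveI := isSeparable_residue Z z
  let K := X.residueField (Z.hom.base z)
  let L := Z.left.residueField z
  haveI : FiniteDimensional K L := EtaleFibre12.finite_residueFieldMap Z.hom z
  letI : Algebra K Ω := ((algebraMap L Ω).comp (algebraMap K L)).toAlgebra
  haveI : IsScalarTower K L Ω := IsScalarTower.of_algebraMap_eq fun _ => rfl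
  let ι : L →ₐ[K] Ω := IsScalarTower.toAlgHom K L Ω
  let ξ : Spec (CommRingCat.of Ω) ⟶ X :=
    Spec.map (CommRingCat.ofHom ι.toRingHom) ≫ Z.left.fromSpecResidueField z ≫ Z.hom
  -- the fibre points over `z`
  let T := {s : FEt.fiberObj ξ Z // s.1.base (IsLocalRing.closedPoint Ω) = z}
  let pt : (L →ₐ[K] Ω) → T := fun j =>
    ⟨⟨Spec.map (CommRingCat.ofHom j.toRingHom) ≫ Z.left.fromSpecResidueField z, by
      show _ = Spec.map (CommRingCat.ofHom ι.toRingHom) ≫ Z.left.fromSpecResidueField z ≫ Z.hom
      rw [Category.assoc, ← Scheme.Hom.SpecMap_residueFieldMap_fromSpecResidueField, ← Spec.map_comp_assoc,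
        ← Spec.map_comp_assoc]
      congr 2
      ext c
      exact (j.commutes c).trans (ι.commutes c).symm⟩, fromSpec_apply Ω z _⟩
  have hpt : Function.Bijective pt := by
    constructor
    · intro j j' h
      have h1 := congrArg (fun t : T => t.1.1) h
      simp only [pt, cancel_mono] at h1
      exact AlgHom.coe_ringHom_injective (congrArg CommRingCat.Hom.hom (Spec.map_injective h1))
    · rintro ⟨⟨s, hs⟩, hsz⟩
      obtain ⟨h, rfl⟩ := exists_factor Ω s z hsz
      have hcomm : Z.hom.residueFieldMap z ≫ h = Z.hom.residueFieldMap z ≫ CommRingCat.ofHom ι.toRingHom := by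
        apply Spec.map_injective
        rw [← cancel_mono (X.fromSpecResidueField _), Spec.map_comp, Spec.map_comp, Category.assoc, Category.assoc]
        refine (congrArg (Spec.map h ≫ ·) (Scheme.Hom.SpecMap_residueFieldMap_fromSpecResidueField Z.hom z)).trans ?_
        refine Eq.trans ?_ (congrArg (Spec.map (CommRingCat.ofHom ι.toRingHom) ≫ ·)
          (Scheme.Hom.SpecMap_residueFieldMap_fromSpecResidueField Z.hom z)).symm
        exact (Category.assoc _ _ _).symm.trans hs
      refine ⟨AlgHom.mk h.hom fun c => ?_, rfl⟩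
      exact (congrArg (fun r : K ⟶ CommRingCat.of Ω => r.hom c) hcomm).trans (ι.commutes c)
  have hcard : Nat.card T = Module.finrank K L :=
    (Nat.card_congr (Equiv.ofBijective pt hpt)).symm.trans (AlgHom.natCard_of_splits K L Ω
      fun x => IsAlgClosed.splits _)
  -- automorphisms fixing `z`
  let H : Subgroup (Aut Z) :=
    { carrier := {σ | σ.hom.left.base z = z}
      one_mem' := rfl
      mul_mem' := fun {σ τ} hσ hτ => by
        show σ.hom.left.base (τ.hom.left.base z) = z
        rw [hτ, hσ]
      inv_mem' := fun {σ} hσ => by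
        show σ.inv.left.base z = z
        have h := congrArg (fun f : Z ⟶ Z => f.left.base z) σ.hom_inv_id
        change σ.inv.left.base (σ.hom.left.base z) = z at h
        rw [hσ] at h
        exact h }
  letI : MulAction H T :=
    { smul := fun σ t => ⟨(FEt.fiber ξ).map σ.1.hom t.1, by
        show σ.1.hom.left.base (t.1.1.base (IsLocalRing.closedPoint Ω)) = z
        rw [t.2]; exact σ.2⟩
      one_smul := fun t => Subtype.ext (Subtype.ext (Category.comp_id _))
      mul_smul := fun σ τ t => Subtype.ext (Subtype.ext (Category.assoc _ _ _).symm) }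
  have htrans : ∀ t : T, ∃ σ : H, σ • pt ι = t := by
    intro t
    obtain ⟨σ, hσ⟩ := hZ.2 Ω ξ (pt ι).1 t.1
    have hσz : σ.hom.left.base z = z := by
      have h := congrArg (fun s : FEt.fiberObj ξ Z => s.1.base (IsLocalRing.closedPoint Ω)) hσ
      change σ.hom.left.base ((pt ι).1.1.base (IsLocalRing.closedPoint Ω)) = t.1.1.base (IsLocalRing.closedPoint Ω) at h
      rwa [(pt ι).2, t.2] at h
    exact ⟨⟨σ, hσz⟩, Subtype.ext hσ⟩
  have hdvd : Nat.card T ∣ Nat.card (Aut Z) := by
    refine Dvd.dvd.trans ?_ (Subgroup.card_subgroup_dvd_card H)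
    have horb : MulAction.orbit H (pt ι) = Set.univ := Set.eq_univ_of_forall htrans
    have h1 := Nat.card_congr (MulAction.orbitEquivQuotientStabilizer H (pt ι))
    rw [horb, Nat.card_congr (Equiv.Set.univ T)] at h1
    rw [h1]
    exact Subgroup.card_quotient_dvd_card _
  -- every embedding factors through an automorphism
  have hfac : ∀ j : L →ₐ[K] Ω, ∃ a : L →ₐ[K] L, ι.comp a = j := by
    intro j
    obtain ⟨⟨σ, hσz⟩, hσ⟩ := htrans (pt j)
    obtain ⟨h, hh⟩ := exists_factor L (Z.left.fromSpecResidueField z ≫ σ.hom.left) z (by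
      rw [Scheme.Hom.comp_apply]
      exact (congrArg σ.hom.left.base (Scheme.fromSpecResidueField_apply z _)).trans hσz)
    have hσ' : (Spec.map (CommRingCat.ofHom ι.toRingHom) ≫ Z.left.fromSpecResidueField z) ≫ σ.hom.left =
        Spec.map (CommRingCat.ofHom j.toRingHom) ≫ Z.left.fromSpecResidueField z :=
      congrArg (fun t : T => t.1.1) hσ
    rw [Category.assoc, ← hh, ← Category.assoc, cancel_mono, ← Spec.map_comp] at hσ'
    have hj : h ≫ CommRingCat.ofHom ι.toRingHom = CommRingCat.ofHom j.toRingHom := Spec.map_injective hσ'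
    refine ⟨AlgHom.mk h.hom fun c => ι.toRingHom.injective ?_, AlgHom.ext fun x =>
      congrArg (fun r : L ⟶ CommRingCat.of Ω => r.hom x) hj⟩
    exact ((congrArg (fun r : L ⟶ CommRingCat.of Ω => r.hom (algebraMap K L c)) hj).trans (j.commutes c)).trans
      (ι.commutes c).symm
  have hGal : Nat.card (L ≃ₐ[K] L) = Module.finrank K L := by
    rw [← AlgHom.natCard_of_splits K L Ω fun x => IsAlgClosed.splits _]
    refine Nat.card_congr (Equiv.ofBijective (fun a : L ≃ₐ[K] L => ι.comp a.toAlgHom) ⟨fun a b h => ?_, fun j => ?_⟩)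
    · exact AlgEquiv.ext fun x => ι.toRingHom.injective (AlgHom.congr_fun h x)
    · obtain ⟨a, ha⟩ := hfac j
      exact ⟨AlgEquiv.ofBijective a (Algebra.IsAlgebraic.algHom_bijective a), ha⟩
  exact ⟨IsGalois.of_card_aut_eq_finrank K L hGal, inferInstance, hcard ▸ hdvd⟩

theorem galois_residue (hZ : PiSp.IsGaloisCover Z) [Finite (Aut Z)] :
    IsGalois (X.residueField (Z.hom.base z)) (Z.left.residueField z) ∧
      FiniteDimensional (X.residueField (Z.hom.base z)) (Z.left.residueField z) ∧
      Module.finrank (X.residueField (Z.hom.base z)) (Z.left.residueField z) ∣ Nat.card (Aut Z) :=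
  galois_residue_aux Z z (AlgebraicClosure (Z.left.residueField z)) hZ

theorem cover_tame {k : Type u} [Field k] (s : X ⟶ Spec (CommRingCat.of k))
    (hZ : PiSp.IsGaloisCover Z) (hn : (Nat.card (Aut Z) : k) ≠ 0)
    (A : ValuationSubring (X.residueField (Z.hom.base z))) [IsDiscreteValuationRing A]
    (a : Spec (CommRingCat.of A) ⟶ Spec (CommRingCat.of k)) :
    EtRam.IsTamelyRamified A ((Z.hom.residueFieldMap z).hom.comp A.subtype) := by
  haveI : Finite (Aut Z) := Nat.finite_of_card_ne_zero fun h => hn (by rw [h, Nat.cast_zero])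
  obtain ⟨hG, hfin, hdvd⟩ := galois_residue Z z hZ
  haveI := hG
  haveI := hfin
  letI : Algebra A (Z.left.residueField z) := ((Z.hom.residueFieldMap z).hom.comp A.subtype).toAlgebra
  haveI : IsScalarTower A (X.residueField (Z.hom.base z)) (Z.left.residueField z) :=
    IsScalarTower.of_algebraMap_eq fun _ => rfl
  refine tame_of_galois A (X.residueField (Z.hom.base z)) (Z.left.residueField z) ?_
  refine natCast_ne_zero_of_dvd hdvd ?_
  have h := (map_ne_zero ((IsLocalRing.residue A).comp (Spec.preimage a).hom)).2 hn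
  rwa [map_natCast] at h

end Groth.Agent.EtRamProper29
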