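import Groth.Agent.Lib.EtRamH7.PrimeExt
import Mathlib.RingTheory.Etale.Basic
import Mathlib.RingTheory.Unramified.Field
import Mathlib.LinearAlgebra.TensorProduct.Quotient
import Mathlib.FieldTheory.IsAlgClosed.AlgebraicClosure
import Mathlib.LinearAlgebra.Dual.Lemmas

/-!
# Extensions cut out by finite étale algebras are unramified
-/

set_option maxHeartbeats 400000
set_option autoImplicit false

universe u

open IsLocalRing TensorProduct

namespace Groth.Agent.EtRamProper29

/-- If the two maps `L → L ⊗[F] L` agree, then `L = F`. -/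
theorem surjective_of_tensor_eq {F L : Type u} [Field F] [Field L] [Algebra F L]
    (h : ∀ x : L, x ⊗ₜ[F] (1 : L) = (1 : L) ⊗ₜ[F] x) : Function.Surjective (algebraMap F L) := by
  intro x
  by_contra hx
  have hnm : x ∉ (F ∙ (1 : L)) := fun hm => hx (by
    obtain ⟨c, hc⟩ := Submodule.mem_span_singleton.1 hm
    exact ⟨c, by rw [Algebra.algebraMap_eq_smul_one, hc]⟩)
  obtain ⟨f, hfx, hf⟩ := Submodule.exists_dual_map_eq_bot_of_notMem hnm inferInstance
  have hf1 : f 1 = 0 := by
    have h2 : f 1 ∈ (F ∙ (1 : L)).map f := Submodule.mem_map_of_mem (Submodule.mem_span_singleton_self 1)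
    rw [hf] at h2
    exact (Submodule.mem_bot F).1 h2
  have h3 := congrArg (TensorProduct.lift ((LinearMap.lsmul F L).comp f)) (h x)
  simp only [TensorProduct.lift.tmul, LinearMap.comp_apply, LinearMap.lsmul_apply, hf1, zero_smul] at h3
  rcases smul_eq_zero.1 h3 with h4 | h4
  · exact hfx h4
  · exact one_ne_zero h4

variable (A : Type u) [CommRing A] [IsDomain A] [IsDiscreteValuationRing A]
    (K L : Type u) [Field K] [Field L] [Algebra A K] [IsFractionRing A K] [Algebra K L]
    [FiniteDimensional K L] [Algebra A L] [IsScalarTower A K L]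

include K in
/-- A finite étale algebra generating `L` makes `L` unramified. -/
theorem unram_of_etale (B : Type u) [CommRing B] [Algebra A B] [Module.Finite A B] [Algebra.Etale A B]
    (φ : B →ₐ[A] L) (hgen : ∀ y : L, ∃ b b' : B, φ b' ≠ 0 ∧ y * φ b' = φ b) :
    EtRam.IsUnramifiedExt A (algebraMap A L) := by
  classical
  intro V hV
  letI : Algebra A V := (RingHom.codRestrict (algebraMap A L) V hV.1).toAlgebra
  intro _
  haveI : IsScalarTower A V L := IsScalarTower.of_algebraMap_eq fun _ => rfl
  have hgc : algebraMap A L = (algebraMap K L).comp (algebraMap A K) := IsScalarTower.algebraMap_eq A K L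
  haveI := EtRamH7.dvr_of_dominates A K L (algebraMap A L) hgc V hV
  have hinj : Function.Injective (algebraMap A V) := EtRamH7.injective_cod A K L (algebraMap A L) hgc V hV.1
  obtain ⟨π, hπ⟩ := IsDiscreteValuationRing.exists_irreducible A
  have hmem : ∀ b, φ b ∈ V := fun b => by
    have hi : IsIntegral A (φ b) := (IsIntegral.of_finite A b).map φ
    obtain ⟨y, hy⟩ := IsIntegrallyClosed.isIntegral_iff.1 (hi.tower_top (A := V))
    exact hy ▸ y.2
  let Φ : B →+* V := φ.toRingHom.codRestrict V hmem
  have hΦ : ∀ a, Φ (algebraMap A B a) = algebraMap A V a := fun a => Subtype.ext (φ.commutes a)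
  let kA := ResidueField A
  let kV := ResidueField V
  let T := kA ⊗[A] B
  haveI : Module.Finite kA T := inferInstance
  haveI : IsArtinianRing T := IsArtinianRing.of_finite kA T
  haveI : Algebra.Etale kA T := inferInstance
  haveI : IsReduced T := Algebra.FormallyUnramified.isReduced_of_field kA T
  haveI : Algebra.IsGeometricallyReduced kA T := by
    rw [Algebra.isGeometricallyReduced_field_iff]
    exact Algebra.FormallyUnramified.isReduced_of_field (AlgebraicClosure kA) (AlgebraicClosure kA ⊗[kA] T)
  haveI : IsScalarTower A kA kV := IsScalarTower.of_algebraMap_eq fun _ => rfl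
  let ψB : B →ₐ[A] kV :=
    { (residue V).comp Φ with commutes' := fun a => congrArg (residue V) (hΦ a) }
  let ψ : T →ₐ[kA] kV := Algebra.TensorProduct.lift (Algebra.ofId kA kV) ψB (fun _ _ => Commute.all _ _)
  let q : B →+* T := (Algebra.TensorProduct.includeRight (R := A) (A := kA) (B := B)).toRingHom
  have hq : Function.Surjective q := by
    intro t
    induction t using TensorProduct.induction_on with
    | zero => exact ⟨0, map_zero _⟩
    | add a b ha hb =>
      obtain ⟨a, rfl⟩ := ha; obtain ⟨b, rfl⟩ := hb
      exact ⟨a + b, map_add _ _ _⟩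
    | tmul c b =>
      obtain ⟨a, rfl⟩ := residue_surjective c
      refine ⟨a • b, ?_⟩
      show (1 : kA) ⊗ₜ[A] (a • b) = _
      rw [← TensorProduct.smul_tmul, Algebra.smul_def, mul_one]
      rfl
  obtain ⟨hw, hgr⟩ := EtRamH7.fibre_criterion (V := A) (W := V) (S := B) (T := T) hinj π hπ Φ q hq ψ
    (fun s => by
      show ψ ((1 : kA) ⊗ₜ[A] s) = residue V (Φ s)
      rw [Algebra.TensorProduct.lift_tmul, map_one, one_mul]
      rfl)
    (fun s hs => by
      have h1 : (Submodule.Quotient.mk (p := maximalIdeal A • (⊤ : Submodule A B)) s) = 0 := by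
        have h2 := congrArg (TensorProduct.quotTensorEquivQuotSMul B (maximalIdeal A)) hs
        replace h2 := h2.trans (map_zero (TensorProduct.quotTensorEquivQuotSMul B (maximalIdeal A)))
        refine Eq.trans ?_ h2
        symm
        show TensorProduct.quotTensorEquivQuotSMul B (maximalIdeal A) ((Ideal.Quotient.mk _ 1) ⊗ₜ[A] s) = _
        simp
      rw [Submodule.Quotient.mk_eq_zero, hπ.maximalIdeal_eq, Submodule.ideal_span_singleton_smul,
        Submodule.mem_smul_pointwise_iff_exists] at h1
      obtain ⟨r, -, rfl⟩ := h1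
      exact ⟨r, by rw [Algebra.smul_def, map_mul, hΦ]⟩)
    (fun x => by
      obtain ⟨b, b', hb', hb⟩ := hgen x.1
      exact ⟨b, b', fun h => hb' (congrArg Subtype.val h), Subtype.ext hb⟩)
  haveI := hgr
  haveI : Module.Finite (ResidueField A) (ResidueField V) :=
    (Groth.Agent.S7132.result A V K L hinj).1
  exact ⟨hw, GlobFun18.isSeparable_of_isGeometricallyReduced (k := ResidueField A) (ResidueField V)⟩

/-- Unramified extensions are tame. -/
theorem tame_of_unram {g : A →+* L} (hg : Function.Injective g) (h : EtRam.IsUnramifiedExt A g) : EtRam.IsTamelyRamified A g := by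
  intro V hV
  letI : Algebra A V := (RingHom.codRestrict g V hV.1).toAlgebra
  intro _
  obtain ⟨hw, hs⟩ := h V hV
  refine ⟨hs, fun p hp _ hdvd => ?_⟩
  have hw' : (maximalIdeal A).map (algebraMap A V) = maximalIdeal V := hw
  by_cases hsq : maximalIdeal V ≤ maximalIdeal V ^ 2
  · -- then the maximal ideal vanishes, impossible for a valuation ring dominating `A`
    have hfg : (maximalIdeal V).FG := hw' ▸ Ideal.FG.map (IsNoetherian.noetherian (maximalIdeal A)) _
    have h0 : maximalIdeal V = ⊥ := Submodule.eq_bot_of_le_smul_of_le_jacobson_bot _ _ hfg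
      (by rwa [pow_two] at hsq) (maximalIdeal_le_jacobson ⊥)
    rw [← hw', Ideal.map_eq_bot_iff_le_ker] at h0
    obtain ⟨π, hπ⟩ := IsDiscreteValuationRing.exists_irreducible A
    have h1 : g π = 0 := congrArg Subtype.val (RingHom.mem_ker.1 (h0 ((mem_maximalIdeal π).2 hπ.not_isUnit)))
    exact absurd (hg (h1.trans (map_zero g).symm)) hπ.ne_zero
  · have he : Ideal.ramificationIdx' (maximalIdeal A) (maximalIdeal V) = 1 :=
      Ideal.ramificationIdx'_spec (by rw [hw', pow_one]) (by rw [hw']; exact hsq)
    rw [he] at hdvd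
    exact hp.not_dvd_one hdvd

end Groth.Agent.EtRamProper29
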