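import Groth.Agent.Lib.EtRamH7.PrimeExt
import Groth.Agent.Lib.EtRamBC29.Root
import Mathlib.NumberTheory.RamificationInertia.Galois
import Mathlib.RingTheory.RamificationInertia.Ramification
import Mathlib.RingTheory.DedekindDomain.IntegralClosure
import Mathlib.RingTheory.Invariant.Galois
import Mathlib.FieldTheory.Galois.IsGaloisGroup
import Mathlib.RingTheory.Trace.Basic

/-!
# Galois extensions of degree prime to the residue characteristic are tame
-/

set_option maxHeartbeats 400000
set_option autoImplicit false

universe u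

open IsLocalRing

namespace Groth.Agent.EtRamProper29

theorem isSeparable_of_finrank {K L : Type u} [Field K] [Field L] [Algebra K L]
    (h : ((Module.finrank K L : ℕ) : K) ≠ 0) : Algebra.IsSeparable K L := by
  by_contra hns
  refine h ?_
  rw [← mul_one ((Module.finrank K L : ℕ) : K), ← nsmul_eq_mul, ← Algebra.trace_algebraMap (S := L) (1 : K),
    Algebra.trace_eq_zero_of_not_isSeparable hns, LinearMap.zero_apply]

theorem natCast_ne_zero_of_dvd {F : Type u} [Field F] {d n : ℕ} (h : d ∣ n) (hn : (n : F) ≠ 0) : (d : F) ≠ 0 := by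
  obtain ⟨c, rfl⟩ := h
  rw [Nat.cast_mul] at hn
  exact left_ne_zero_of_mul hn

variable (A : Type u) [CommRing A] [IsDomain A] [IsDiscreteValuationRing A]
    (K L : Type u) [Field K] [Field L] [Algebra A K] [IsFractionRing A K] [Algebra K L]
    [FiniteDimensional K L] [Algebra A L] [IsScalarTower A K L]

include K in
theorem tame_of_galois [IsGalois K L] (hn : ((Module.finrank K L : ℕ) : ResidueField A) ≠ 0) :
    EtRam.IsTamelyRamified A (algebraMap A L) := by
  classical
  intro V hV
  letI : Algebra A V := (RingHom.codRestrict (algebraMap A L) V hV.1).toAlgebra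
  intro _
  haveI : IsScalarTower A V L := IsScalarTower.of_algebraMap_eq fun _ => rfl
  have hgc : algebraMap A L = (algebraMap K L).comp (algebraMap A K) := IsScalarTower.algebraMap_eq A K L
  haveI := EtRamH7.dvr_of_dominates A K L (algebraMap A L) hgc V hV
  have hinj : Function.Injective (algebraMap A V) := EtRamH7.injective_cod A K L (algebraMap A L) hgc V hV.1
  let B := integralClosure A L
  haveI : IsFractionRing B L := integralClosure.isFractionRing_of_finite_extension K L
  haveI : IsDedekindDomain B := IsIntegralClosure.isDedekindDomain A K L B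
  haveI : Module.Finite A B := IsIntegralClosure.finite A K L B
  haveI : Algebra.IsAlgebraic K L := Algebra.IsAlgebraic.of_finite K L
  letI := IsIntegralClosure.MulSemiringAction A K L B
  haveI : IsGaloisGroup Gal(L/K) A B := IsGaloisGroup.of_isFractionRing Gal(L/K) A B K L
  have hinjB : Function.Injective (algebraMap A B) := fun a b h =>
    (IsFractionRing.injective A K) ((algebraMap K L).injective
      (by rw [← IsScalarTower.algebraMap_apply, ← IsScalarTower.algebraMap_apply]; exact congrArg Subtype.val h))
  haveI : FaithfulSMul A B := (faithfulSMul_iff_algebraMap_injective A B).2 hinjB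
  haveI : Module.IsTorsionFree A B := inferInstance
  haveI : Module.Flat A B := inferInstance
  have hmem : ∀ b : B, (b : L) ∈ V := fun b => by
    obtain ⟨y, hy⟩ := IsIntegrallyClosed.isIntegral_iff.1 ((b.2 : IsIntegral A (b : L)).tower_top (A := V))
    exact hy ▸ y.2
  let Φ : B →ₐ[A] V :=
    { toFun := fun b => ⟨b, hmem b⟩
      map_one' := rfl
      map_mul' := fun _ _ => rfl
      map_zero' := rfl
      map_add' := fun _ _ => rfl
      commutes' := fun _ => rfl }
  have hΦinj : Function.Injective Φ := fun a b h => by
    apply Subtype.ext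
    exact congrArg (fun x : V => (x : L)) h
  let P : Ideal B := (maximalIdeal V).comap Φ
  haveI : P.IsPrime := Ideal.comap_isPrime _ _
  haveI hover : P.LiesOver (maximalIdeal A) := ⟨by
    refine (Eq.symm ?_)
    refine ((maximalIdeal.isMaximal A).eq_of_le (Ideal.IsPrime.ne_top (Ideal.comap_isPrime _ _)) fun a ha => ?_).symm
    show Φ (algebraMap A B a) ∈ maximalIdeal V
    rw [Φ.commutes]
    exact ((IsLocalRing.local_hom_TFAE (algebraMap A V)).out 0 2 rfl rfl).1 inferInstance
      (Ideal.mem_map_of_mem _ ha)⟩
  obtain ⟨π, hπ⟩ := IsDiscreteValuationRing.exists_irreducible A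
  have hP0 : P ≠ ⊥ := fun h => by
    have h1 : algebraMap A B π ∈ P := by
      have : π ∈ P.under A := (Ideal.over_def P (maximalIdeal A)) ▸ (mem_maximalIdeal π).2 hπ.not_isUnit
      exact this
    rw [h, Ideal.mem_bot] at h1
    exact hπ.ne_zero (hinjB (h1.trans (map_zero _).symm))
  let S := Localization.AtPrime P
  haveI : IsDiscreteValuationRing S := IsLocalization.AtPrime.isDiscreteValuationRing_of_dedekind_domain B hP0 S
  have hunit : ∀ s : P.primeCompl, IsUnit (Φ (s : B)) := fun s => notMem_maximalIdeal.1 s.2
  let ψ : S →ₐ[A] V := IsLocalization.liftAlgHom (f := Φ) hunit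
  have hψB : ∀ b, ψ (algebraMap B S b) = Φ b := fun b => IsLocalization.lift_eq hunit b
  have hψinj : Function.Injective ψ := (IsLocalization.lift_injective_iff hunit).2 fun x y => by
    constructor
    · intro h
      exact congrArg Φ (IsLocalization.injective S P.primeCompl_le_nonZeroDivisors h)
    · intro h; rw [hΦinj h]
  have hψlocal : ∀ z : S, z ∈ maximalIdeal S → ψ z ∈ maximalIdeal V := fun z hz => by
    obtain ⟨b, s, rfl⟩ := IsLocalization.exists_mk'_eq P.primeCompl z
    have hb : b ∈ P := (IsLocalization.AtPrime.mk'_mem_maximal_iff S P b s).1 hz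
    have he : ψ (IsLocalization.mk' S b s) * Φ (s : B) = Φ b := by
      rw [← hψB, ← hψB, ← map_mul, IsLocalization.mk'_spec]
    exact ((maximalIdeal.isMaximal V).isPrime.mem_or_mem (he ▸ hb : ψ (IsLocalization.mk' S b s) * Φ (s : B) ∈ maximalIdeal V)).resolve_right
      fun h => (mem_maximalIdeal _).1 h (hunit s)
  have hψsurj : Function.Surjective ψ := by
    intro x
    letI : Algebra S L := ((V.subtype).comp ψ.toRingHom).toAlgebra
    haveI : IsScalarTower B S L := IsScalarTower.of_algebraMap_eq fun b => (congrArg Subtype.val (hψB b)).symm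
    haveI : IsFractionRing S L := IsFractionRing.isFractionRing_of_isDomain_of_isLocalization P.primeCompl S L
    rcases ValuationRing.isInteger_or_isInteger S (x : L) with ⟨z, hz⟩ | ⟨z, hz⟩
    · exact ⟨z, Subtype.ext hz⟩
    · by_cases hx : x = 0
      · exact ⟨0, by rw [map_zero, hx]⟩
      have hz' : ψ z * x = 1 := by
        refine Subtype.ext ?_
        show (ψ z : L) * (x : L) = 1
        rw [show (ψ z : L) = algebraMap S L z from rfl, hz, inv_mul_cancel₀]
        exact fun h => hx (Subtype.ext h)
      have hu : IsUnit z := notMem_maximalIdeal.1 fun h =>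
        (mem_maximalIdeal (ψ z)).1 (hψlocal z h) (IsUnit.of_mul_eq_one _ hz')
      obtain ⟨w, hw⟩ := hu.exists_right_inv
      exact ⟨w, by rw [← one_mul (ψ w), ← hz', mul_right_comm, ← map_mul, hw, map_one, one_mul]⟩
  let ψe : S ≃ₐ[A] V := AlgEquiv.ofBijective ψ ⟨hψinj, hψsurj⟩
  have hmax : (maximalIdeal S).map ψ = maximalIdeal V :=
    IsLocalRing.map_maximalIdeal_of_surjective (ψ : S →+* V) hψsurj
  have hinjS : Function.Injective (algebraMap A S) := fun a b h => hinj (by rw [← ψ.commutes, h, ψ.commutes])
  -- ramification index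
  have he1 : P.ramificationIdx A = Ideal.ramificationIdx' (maximalIdeal A) (maximalIdeal S) := by
    rw [Ideal.ramificationIdx_eq (maximalIdeal A) P]
    show (Module.length S (S ⧸ (maximalIdeal A).map (algebraMap A S))).toNat = _
    rw [EtRamH7.map_maximalIdeal_eq_pow A S hinjS, IsDiscreteValuationRing.length_quotient_pow_maximalIdeal,
      ENat.toNat_natCast]
  have he2 : Ideal.ramificationIdx' (maximalIdeal A) (maximalIdeal V) =
      Ideal.ramificationIdx' (maximalIdeal A) (maximalIdeal S) := by
    refine EtRamBC29.pow_inj_maximalIdeal (S := V) ?_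
    rw [← EtRamH7.map_maximalIdeal_eq_pow A V hinj, ← ψ.comp_algebraMap, ← Ideal.map_map,
      EtRamH7.map_maximalIdeal_eq_pow A S hinjS, Ideal.map_pow]
    exact congrArg (· ^ _) hmax
  -- residue degree
  have hf : P.inertiaDeg A = Module.finrank (ResidueField A) (ResidueField V) := by
    letI := Localization.AtPrime.algebraOfLiesOver (maximalIdeal A) P
    rw [Ideal.inertiaDeg_eq (maximalIdeal A) P]
    let e₁ : ResidueField A ≃+* (maximalIdeal A).ResidueField :=
      RingEquiv.ofBijective (algebraMap (A ⧸ maximalIdeal A) (maximalIdeal A).ResidueField)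
        (Ideal.bijective_algebraMap_quotient_residueField _)
    let e₂ : P.ResidueField ≃+* ResidueField V := IsLocalRing.ResidueField.mapEquiv ψe.toRingEquiv
    refine Algebra.finrank_eq_of_equiv_equiv e₁.symm e₂ ?_
    refine RingHom.ext fun r => ?_
    obtain ⟨r', rfl⟩ := e₁.surjective r
    obtain ⟨a, rfl⟩ := residue_surjective r'
    show algebraMap (ResidueField A) (ResidueField V) (e₁.symm (e₁ (residue A a))) = _
    rw [RingEquiv.symm_apply_apply]
    show residue V (algebraMap A V a) = e₂ (algebraMap (maximalIdeal A).ResidueField P.ResidueField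
      (algebraMap A (maximalIdeal A).ResidueField a))
    rw [← IsScalarTower.algebraMap_apply A (maximalIdeal A).ResidueField P.ResidueField,
      IsScalarTower.algebraMap_apply A S P.ResidueField]
    exact congrArg (residue V) (ψ.commutes a).symm
  have hid := Ideal.ncard_primesOver_mul_ramificationIdxIn_mul_inertiaDegIn (maximalIdeal A) B Gal(L/K)
  rw [IsGalois.card_aut_eq_finrank, Ideal.ramificationIdxIn_eq_ramificationIdx (maximalIdeal A) P Gal(L/K),
    Ideal.inertiaDegIn_eq_inertiaDeg (maximalIdeal A) P Gal(L/K), he1, ← he2, hf] at hid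
  have hfdvd : Module.finrank (ResidueField A) (ResidueField V) ∣ Module.finrank K L :=
    Dvd.dvd.trans (dvd_mul_left _ _) (Dvd.intro_left _ hid)
  have hedvd : Ideal.ramificationIdx' (maximalIdeal A) (maximalIdeal V) ∣ Module.finrank K L :=
    Dvd.dvd.trans (dvd_mul_right _ _) (Dvd.intro_left _ hid)
  exact ⟨isSeparable_of_finrank (natCast_ne_zero_of_dvd hfdvd hn), fun p hp _ hdvd =>
    natCast_ne_zero_of_dvd (hdvd.trans hedvd) hn (CharP.cast_eq_zero (ResidueField A) p)⟩

end Groth.Agent.EtRamProper29
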