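import Groth.Agent.Lib.EtRamProper29.Etale
import Groth.Agent.Lib.EtaleFibre12.Basic
import Mathlib.AlgebraicGeometry.ValuativeCriterion
import Mathlib.AlgebraicGeometry.Morphisms.Etale

/-!
# Finite étale covers of proper schemes are tame
-/

set_option maxHeartbeats 400000
set_option autoImplicit false
set_option backward.isDefEq.respectTransparency false

universe u

open CategoryTheory AlgebraicGeometry Limits TensorProduct

namespace Groth.Agent.EtRamProper29

theorem main {k : Type u} [Field k] {X Y : Scheme.{u}} (s : X ⟶ Spec (CommRingCat.of k))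
    [IsProper s] (f : Y ⟶ X) [IsFinite f] [Etale f] (y : Y)
    (A : ValuationSubring (X.residueField (f.base y))) [IsDiscreteValuationRing A]
    (a : Spec (CommRingCat.of A) ⟶ Spec (CommRingCat.of k))
    (ha : Spec.map (CommRingCat.ofHom A.subtype) ≫ a = X.fromSpecResidueField (f.base y) ≫ s) :
    EtRam.IsTamelyRamified A ((f.residueFieldMap y).hom.comp A.subtype) := by
  let x := f.base y
  let S : ValuativeCommSq s :=
    { R := A
      K := X.residueField x
      i₁ := X.fromSpecResidueField x
      i₂ := a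
      commSq := ⟨ha.symm⟩ }
  have hex : ValuativeCriterion.Existence s := by
    have h : UniversallyClosed s := inferInstance
    rw [UniversallyClosed.eq_valuativeCriterion] at h
    exact h.1
  obtain ⟨φ, hφ₁, -⟩ := (hex S).exists_lift.some
  let P := pullback f φ
  haveI : IsAffine P := isAffine_of_isAffineHom (pullback.snd f φ)
  let B := Γ(P, ⊤)
  let ι : CommRingCat.of A ⟶ B := Spec.preimage (P.isoSpec.inv ≫ pullback.snd f φ)
  have hι : Spec.map ι = P.isoSpec.inv ≫ pullback.snd f φ := Spec.map_preimage _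
  letI : Algebra A B := ι.hom.toAlgebra
  have hfin : IsFinite (Spec.map ι) := by rw [hι]; infer_instance
  rw [IsFinite.SpecMap_iff] at hfin
  haveI : Module.Finite A B := hfin
  have het : Etale (Spec.map ι) := by rw [hι]; infer_instance
  rw [HasRingHomProperty.Spec_iff (P := @Etale)] at het
  haveI : Algebra.Etale A B := het
  let L := Y.residueField y
  letI : Algebra (X.residueField x) L := (f.residueFieldMap y).hom.toAlgebra
  haveI : FiniteDimensional (X.residueField x) L := EtaleFibre12.finite_residueFieldMap f y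
  let g : A →+* L := (f.residueFieldMap y).hom.comp A.subtype
  letI : Algebra A L := g.toAlgebra
  haveI : IsScalarTower A (X.residueField x) L := IsScalarTower.of_algebraMap_eq fun _ => rfl
  let pt : Spec L ⟶ P := pullback.lift (Y.fromSpecResidueField y) (Spec.map (CommRingCat.ofHom g)) (by
    rw [← Scheme.Hom.SpecMap_residueFieldMap_fromSpecResidueField,
      show CommRingCat.ofHom g = CommRingCat.ofHom A.subtype ≫ f.residueFieldMap y from rfl, Spec.map_comp,
      Category.assoc]
    exact congrArg (Spec.map (f.residueFieldMap y) ≫ ·) hφ₁.symm)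
  let φB₀ : B ⟶ L := Spec.preimage (pt ≫ P.isoSpec.hom)
  have hφB₀ : Spec.map φB₀ = pt ≫ P.isoSpec.hom := Spec.map_preimage _
  have hcomm : ι ≫ φB₀ = CommRingCat.ofHom g := by
    apply Spec.map_injective
    rw [Spec.map_comp, hι, hφB₀, Category.assoc, Iso.hom_inv_id_assoc]
    exact pullback.lift_snd _ _ _
  let φB : B →ₐ[A] L := AlgHom.mk φB₀.hom fun c =>
    congrArg (fun r : CommRingCat.of A ⟶ L => r.hom c) hcomm
  refine tame_of_unram A L ((f.residueFieldMap y).hom.injective.comp Subtype.val_injective) ?_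
  refine unram_of_etale A (X.residueField x) L B φB fun z => ?_
  -- the image of `B` generates the residue field
  let L₀ : Subfield L := Subfield.closure (φB.range : Set L)
  have hsurj : Function.Surjective (algebraMap L₀ L) := by
    refine surjective_of_tensor_eq fun w => ?_
    let i₁ : L →+* L ⊗[L₀] L := Algebra.TensorProduct.includeLeftRingHom
    let i₂ : L →+* L ⊗[L₀] L := (Algebra.TensorProduct.includeRight (R := L₀) (A := L) (B := L)).toRingHom
    suffices h : CommRingCat.ofHom i₁ = CommRingCat.ofHom i₂ by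
      exact congrArg (fun r : L ⟶ CommRingCat.of (L ⊗[L₀] L) => r.hom w) h
    apply Spec.map_injective
    rw [← cancel_mono (Y.fromSpecResidueField y)]
    have hpt : pt ≫ pullback.fst f φ = Y.fromSpecResidueField y := pullback.lift_fst _ _ _
    rw [← hpt, ← Category.assoc, ← Category.assoc]
    refine congrArg (· ≫ pullback.fst f φ) ?_
    rw [← cancel_mono P.isoSpec.hom, Category.assoc, Category.assoc, ← hφB₀, ← Spec.map_comp,
      ← Spec.map_comp]
    refine congrArg Spec.map (CommRingCat.hom_ext (RingHom.ext fun b => ?_))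
    let c : L₀ := ⟨φB b, Subfield.subset_closure ⟨b, rfl⟩⟩
    show (φB b) ⊗ₜ[L₀] (1 : L) = (1 : L) ⊗ₜ[L₀] (φB b)
    have hc : φB b = c • (1 : L) := (mul_one _).symm
    rw [hc, TensorProduct.smul_tmul]
  obtain ⟨⟨z₀, hz₀⟩, rfl⟩ := hsurj z
  show ∃ b b' : B, φB b' ≠ 0 ∧ z₀ * φB b' = φB b
  obtain ⟨u, hu, v, hv, huv⟩ := Subfield.mem_closure_iff.1 hz₀
  have hrange : Subring.closure (φB.range : Set L) = φB.toRingHom.range := by
    refine le_antisymm (Subring.closure_le.2 ?_) ?_
    · rintro _ ⟨b, rfl⟩; exact ⟨b, rfl⟩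
    · rintro _ ⟨b, rfl⟩; exact Subring.subset_closure ⟨b, rfl⟩
  rw [hrange] at hu hv
  obtain ⟨b, rfl⟩ := hu
  obtain ⟨b', rfl⟩ := hv
  by_cases hb' : φB.toRingHom b' = 0
  · refine ⟨0, 1, by simp, ?_⟩
    rw [← huv, hb', div_zero, map_zero, zero_mul]
  · exact ⟨b, b', hb', by rw [← huv]; exact div_mul_cancel₀ _ hb'⟩

end Groth.Agent.EtRamProper29
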